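import Groth.Agent.DerBC7.TensorPerfect
import Groth.Agent.PerfGen7.TermsPC
import Groth.Agent.KFlatLib.Scheme.RpushTriangle
import Groth.Agent.KFlatLib.Scheme.RpushQCoh

/-!
# Direct images of perfect objects tensored with bounded complexes flat over the base
-/

set_option linter.style.haveILetI false
set_option backward.isDefEq.respectTransparency false

universe u

open CategoryTheory CategoryTheory.Limits AlgebraicGeometry Pretriangulated ZeroObject

attribute [local instance] HasDerivedCategory.standard

noncomputable section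

namespace Groth.Agent.FMPerf

open Groth.Agent.KFlatLib Groth.Agent.PerfGen7 Groth.Agent.DerBC7

variable {X S : Scheme.{u}} (f : X ⟶ S) [LocallyOfFinitePresentation f] [QuasiCompact f]
  [QuasiSeparated f] [DCoh.HasRpush f] {R : CochainComplex X.Modules ℤ}

lemma perf_of_iso {A B : DCoh.D S} (e : A ≅ B) (h : DCoh.IsPerfect A) : DCoh.IsPerfect B :=
  (isPerfect_iff _).2 (((isPerfect_iff _).1 h).of_iso e)

/-- The case of one term. -/
lemma isPerfect_rpush_tensor_single (hR : DCoh.IsKFlat R) (hRp : DCoh.IsPerfect (DCoh.toD X R))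
    (a : ℤ) {G : X.Modules} (hG : CohB1.IsFP G) (hflat : FlatMod.IsFlatOver f G)
    (hsupp : ClSub.IsProperOver f (CohB1.support G)) :
    DCoh.IsPerfect ((DCoh.Rpush f).obj (DerivedCategory.Q.obj ((DCoh.tensorCx.obj R).obj
      ((HomologicalComplex.single X.Modules (ComplexShape.up ℤ) a).obj G)))) := by
  haveI := hasLTensorMod G
  haveI := hasLTensorCx (degZero G)
  have h0 := DerBC7.isPerfect_rpush_ltensorMod (f := f) hG hflat hsupp hRp
  obtain ⟨e⟩ := nonempty_LTensorMod_iso G (DCoh.toD X R)
  have h1 := perf_of_iso ((DCoh.Rpush f).mapIso (e ≪≫ ltensorCxIso (degZero G) hR)) h0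
  obtain ⟨eS⟩ := nonempty_rpush_shift f
    (DerivedCategory.Q.obj ((DCoh.tensorCx.obj R).obj (degZero G))) (-a)
  refine perf_of_iso (eS.symm ≪≫ (DCoh.Rpush f).mapIso ?_) (isPerfect_shift' h1 (-a))
  exact ((DerivedCategory.Q.commShiftIso (-a)).app _).symm ≪≫ DerivedCategory.Q.mapIso
    ((CochainComplex.mapBifunctorShift₂Iso R (degZero G) DCoh.tensorBi (-a)).symm ≪≫
      (DCoh.tensorCx.obj R).mapIso
        (((CochainComplex.singleFunctors X.Modules).shiftIso (-a) a 0 (by omega)).app G))

/-- `Rf_*(E ⊗ K)` is perfect. -/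
theorem isPerfect_rpush_tensor (hR : DCoh.IsKFlat R) (hRp : DCoh.IsPerfect (DCoh.toD X R)) (d : ℕ) :
    ∀ (P : CochainComplex X.Modules ℤ) (a : ℤ), DCoh.VanishesOutside P a (a + d - 1) →
      (∀ i, a ≤ i → i ≤ a + d - 1 → CohB1.IsFP (P.X i) ∧ FlatMod.IsFlatOver f (P.X i) ∧
        ClSub.IsProperOver f (CohB1.support (P.X i))) →
      DCoh.IsPerfect ((DCoh.Rpush f).obj (DerivedCategory.Q.obj ((DCoh.tensorCx.obj R).obj P))) := by
  induction d with
  | zero =>
    intro P a hz _
    have h0 : IsZero P := (IsZero.iff_id_eq_zero _).2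
      (HomologicalComplex.hom_ext _ _ fun i => (hz i (by omega)).eq_of_src _ _)
    have hz' : IsZero (DerivedCategory.Q.obj ((DCoh.tensorCx.obj R).obj P)) :=
      DerivedCategory.Q.map_isZero ((DCoh.tensorCx.obj R).map_isZero h0)
    refine isPerfect_of_isZero' ?_
    haveI := hasLpull f
    obtain ⟨adj⟩ := nonempty_lpull_rpush_adj f
    haveI := adj.rightAdjoint_preservesLimits
    exact (DCoh.Rpush f).map_isZero hz'
  | succ d ih =>
    intro P a hz hP
    let g : P ⟶ (HomologicalComplex.single X.Modules (ComplexShape.up ℤ) a).obj (P.X a) :=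
      HomologicalComplex.mkHomToSingle (𝟙 _) (fun i hi => by
        have hi' : i + 1 = a := hi
        rw [(hz i (Or.inl (by omega))).eq_of_src (P.d i a) 0, zero_comp])
    have w : stupidGEι P (a + 1) ≫ g = 0 := by
      refine HomologicalComplex.Hom.ext (funext fun i => ?_)
      rcases eq_or_ne i a with h' | h'
      · subst h'
        exact (isZero_stupidGE P (i + 1) (by omega)).eq_of_src _ _
      · exact (HomologicalComplex.isZero_single_obj_X (ComplexShape.up ℤ) a _ i h').eq_of_tgt _ _
    let T := ShortComplex.mk _ _ w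
    have hsp : ∀ i, Nonempty ((T.map (HomologicalComplex.eval X.Modules (ComplexShape.up ℤ) i)).Splitting) := by
      intro i
      rcases eq_or_ne i a with h' | h'
      · subst h'
        exact ⟨splittingOfIsZero₁ (isZero_stupidGE P (i + 1) (by omega)) (by
          show IsIso (g.f i)
          simp only [g, HomologicalComplex.mkHomToSingle_f]
          infer_instance)⟩
      · refine ⟨splittingOfIsZero₃ (HomologicalComplex.isZero_single_obj_X (ComplexShape.up ℤ) a _ i h') ?_⟩
        show IsIso ((stupidGEι P (a + 1)).f i)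
        by_cases hi : a + 1 ≤ i
        · exact isIso_stupidι P (a + 1) hi
        · exact ⟨0, (isZero_stupidGE P (a + 1) (by omega)).eq_of_src _ _,
            (hz i (Or.inl (by omega))).eq_of_src _ _⟩
    have hS := shortExact₂_of_splitting (T := DCoh.tensorBi (X := X)) R T hsp
    obtain ⟨c, hc⟩ := exists_rpush_triangle f _ (DerivedCategory.triangleOfSES_distinguished hS)
    have hz' : DCoh.VanishesOutside (stupidGE P (a + 1)) (a + 1) (a + 1 + d - 1) := by
      intro i hi
      by_cases hn : a + 1 ≤ i
      · exact (hz i (by omega)).of_iso (eqToIso (stupidX_eq P _ hn))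
      · exact isZero_stupidX P _ hn
    refine isPerfect_tri₂ hc (ih _ (a + 1) hz' fun i hi hi' => ?_)
      (isPerfect_rpush_tensor_single f hR hRp a (hP a le_rfl (by omega)).1
        (hP a le_rfl (by omega)).2.1 (hP a le_rfl (by omega)).2.2)
    have e : (stupidGE P (a + 1)).X i = P.X i := stupidX_eq P _ hi
    rw [e]
    exact hP i (by omega) (by omega)

end Groth.Agent.FMPerf
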